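import Groth.Agent.TorIndepH2.Algebra
import Groth.Agent.RegCancelH2.Main

/-! Intersections of regular immersions in Cohen-Macaulay schemes. -/

set_option autoImplicit false
set_option backward.isDefEq.respectTransparency.types false
set_option backward.isDefEq.respectTransparency false

universe u

open CategoryTheory CategoryTheory.Limits AlgebraicGeometry TopologicalSpace Opposite

noncomputable section

namespace Groth.Agent.TorIndepH2

open CAlgH

variable {X Y Z W : Scheme.{u}}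

theorem ker_inter (iY : Y ⟶ X) (iZ : Z ⟶ X) [IsClosedImmersion iY] [IsClosedImmersion iZ] :
    (pullback.fst iY iZ ≫ iY).ker = iY.ker ⊔ iZ.ker := by
  refine le_antisymm ?_ (sup_le (Scheme.Hom.le_ker_comp _ iY) ?_)
  · have hY : iY.ker ≤ (iY.ker ⊔ iZ.ker).subschemeι.ker :=
      le_sup_left.trans (Scheme.IdealSheafData.ker_subschemeι _).ge
    have hZ : iZ.ker ≤ (iY.ker ⊔ iZ.ker).subschemeι.ker :=
      le_sup_right.trans (Scheme.IdealSheafData.ker_subschemeι _).ge
    let h : (iY.ker ⊔ iZ.ker).subscheme ⟶ pullback iY iZ :=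
      pullback.lift (IsClosedImmersion.lift iY _ hY) (IsClosedImmersion.lift iZ _ hZ)
        (by rw [IsClosedImmersion.lift_fac, IsClosedImmersion.lift_fac])
    have e : h ≫ pullback.fst iY iZ ≫ iY = (iY.ker ⊔ iZ.ker).subschemeι := by
      rw [← Category.assoc, pullback.lift_fst, IsClosedImmersion.lift_fac]
    have h3 := Scheme.Hom.le_ker_comp h (pullback.fst iY iZ ≫ iY)
    rwa [e, Scheme.IdealSheafData.ker_subschemeι] at h3
  · rw [pullback.condition]
    exact Scheme.Hom.le_ker_comp _ iZ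

/-- The ideal of a closed immersion has height bounded below by the dimensions of the local rings along it. -/
theorem le_height_ker [IsLocallyNoetherian X] (i : W ⟶ X) [IsClosedImmersion i] (c : ℕ)
    (h : ∀ w, ((c : ℕ) : WithBot ℕ∞) ≤ ringKrullDim (X.presheaf.stalk (i w))) (w : W) :
    (c : ℕ∞) ≤ (RingHom.ker (i.stalkMap w).hom).height := by
  obtain ⟨U, hU, hwU, -⟩ := exists_isAffineOpen_mem_and_subset (x := i w) (U := ⊤) (Set.mem_univ _)
  letI := X.presheaf.algebra_section_stalk ⟨i w, hwU⟩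
  haveI := hU.isLocalization_stalk ⟨i w, hwU⟩
  set K := RingHom.ker (i.stalkMap w).hom with hKdef
  rw [← IsLocalization.height_under (hU.primeIdealOf ⟨i w, hwU⟩).asIdeal.primeCompl K,
    Ideal.height_eq_inf_minimalPrimes]
  refine le_iInf₂ fun Q hQ => ?_
  haveI := hQ.isPrime
  have hKQ : RingHom.ker (i.app U).hom ≤ Q := by
    refine le_trans ?_ hQ.1.2
    rw [hKdef, RegImmStalk.ker_stalkMap_eq i w hU hwU]
    exact Ideal.le_comap_map
  let q : PrimeSpectrum Γ(X, U) := ⟨Q, inferInstance⟩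
  have hxU : hU.fromSpec q ∈ U := hU.range_fromSpec.le ⟨q, rfl⟩
  have hsupp : hU.fromSpec q ∈ i.ker.support := by
    rw [Scheme.IdealSheafData.mem_support_iff_of_mem (U := ⟨U, hU⟩) hxU, Scheme.Hom.ker_apply]
    show q ∈ hU.fromSpec ⁻¹' X.zeroLocus (U := U) (RingHom.ker (i.app U).hom : Set Γ(X, U))
    rw [hU.fromSpec_preimage_zeroLocus, PrimeSpectrum.mem_zeroLocus]
    exact hKQ
  obtain ⟨w', hw'⟩ : hU.fromSpec q ∈ Set.range i := by
    have hsupp' : hU.fromSpec q ∈ (i.ker.support : Set X) := hsupp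
    exact (i.isClosedEmbedding.isClosed_range.closure_eq).le ((congrArg (fun S => hU.fromSpec q ∈ S) (Scheme.Hom.support_ker i)).mp hsupp')
  have h1 := h w'
  rw [hw'] at h1
  letI := X.presheaf.algebra_section_stalk ⟨hU.fromSpec q, hxU⟩
  haveI := hU.isLocalization_stalk' q hxU
  rw [IsLocalization.AtPrime.ringKrullDim_eq_height Q (X.presheaf.stalk (hU.fromSpec q))] at h1
  exact WithBot.coe_le_coe.1 h1

theorem exists_stalk_gens {a : ℕ} (i : Y ⟶ X) (hi : RegImm.IsRegularImmersionOfCodim RegImm.Kind.regular a i)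
    (y : Y) : ∃ f : Fin a → X.presheaf.stalk (i y), RingHom.ker (i.stalkMap y).hom = Ideal.span (Set.range f) := by
  haveI := hi.1
  obtain ⟨⟨U, hU⟩, hy, hc, rs, rfl, -, hker⟩ := hi.2 y
  refine ⟨fun p => (X.presheaf.germ U (i y) hy).hom (rs.get p), ?_⟩
  rw [RegImmStalk.ker_stalkMap_eq i y hU hy, hker,
    show Ideal.ofList rs = Ideal.span (Set.range rs.get) by rw [Ideal.ofList, Set.range_list_get], Ideal.map_span,
    ← Set.range_comp]
  rfl

theorem exists_gens [IsLocallyNoetherian X] {a : ℕ} (i : Y ⟶ X) [IsClosedImmersion i]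
    (hi : RegImm.IsRegularImmersionOfCodim RegImm.Kind.regular a i) (y : Y) :
    ∃ U : X.affineOpens, i y ∈ U.1 ∧ ∃ g : Fin a → Γ(X, U.1), i.ker.ideal U = Ideal.span (Set.range g) := by
  obtain ⟨U, hy, hc, rs, rfl, -, hker⟩ := hi.2 y
  refine ⟨U, hy, rs.get, ?_⟩
  rw [Scheme.Hom.ker_apply, hker, Ideal.ofList, Set.range_list_get]

theorem ideal_of_le (I : X.IdealSheafData) {U V : X.affineOpens} (h : V.1 ≤ U.1) {n : ℕ} {g : Fin n → Γ(X, U.1)}
    (hg : I.ideal U = Ideal.span (Set.range g)) :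
    I.ideal V = Ideal.span (Set.range fun p => (X.presheaf.map (homOfLE h).op).hom (g p)) := by
  rw [← I.map_ideal (U := V) (V := U) h, hg, Ideal.map_span, ← Set.range_comp]
  rfl

variable [IsLocallyNoetherian X] (iY : Y ⟶ X) (iZ : Z ⟶ X) [IsClosedImmersion iY] [IsClosedImmersion iZ] {a b : ℕ}

theorem isRegularImmersionOfCodim_inter
    (hCM : ∀ x : X, LocCoh.IsCohenMacaulayLocalRing (X.presheaf.stalk x))
    (hY : RegImm.IsRegularImmersionOfCodim RegImm.Kind.regular a iY)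
    (hZ : RegImm.IsRegularImmersionOfCodim RegImm.Kind.regular b iZ)
    (hcodim : ∀ w : ↥(pullback iY iZ), ((a + b : ℕ) : WithBot ℕ∞) ≤
      ringKrullDim (X.presheaf.stalk ((pullback.fst iY iZ ≫ iY) w))) :
    RegImm.IsRegularImmersionOfCodim RegImm.Kind.regular (a + b) (pullback.fst iY iZ ≫ iY) := by
  refine ⟨inferInstance, fun w => ?_⟩
  set i := pullback.fst iY iZ ≫ iY with hi
  have hiw : iY (pullback.fst iY iZ w) = i w := rfl
  have hiw' : iZ (pullback.snd iY iZ w) = i w := by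
    rw [hi, pullback.condition]
    rfl
  obtain ⟨U₁, hw₁, g₁, hg₁⟩ := exists_gens iY hY (pullback.fst iY iZ w)
  obtain ⟨U₂, hw₂, g₂, hg₂⟩ := exists_gens iZ hZ (pullback.snd iY iZ w)
  rw [hiw] at hw₁
  rw [hiw'] at hw₂
  obtain ⟨e₁, e₂, heq, hx⟩ := exists_basicOpen_le_affine_inter U₁.2 U₂.2 (i w) ⟨hw₁, hw₂⟩
  let U : X.affineOpens := ⟨X.basicOpen e₁, U₁.2.basicOpen e₁⟩
  have hU₁ : U.1 ≤ U₁.1 := X.basicOpen_le e₁
  have hU₂ : U.1 ≤ U₂.1 := heq.le.trans (X.basicOpen_le e₂)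
  have hg : i.ker.ideal U = Ideal.span (Set.range (Fin.append
      (fun p => (X.presheaf.map (homOfLE hU₁).op).hom (g₁ p))
      (fun p => (X.presheaf.map (homOfLE hU₂).op).hom (g₂ p)))) := by
    rw [hi, ker_inter, Scheme.IdealSheafData.ideal_sup, Pi.sup_apply, ideal_of_le _ hU₁ hg₁, ideal_of_le _ hU₂ hg₂,
      ← Ideal.span_union, FlatMorKoszul.range_append]
  obtain ⟨V, hwV, f, hf, hreg⟩ :=
    InjMod14.Kosz.exists_basicOpen_regular hCM i w (le_height_ker i _ hcodim w) U hx _ hg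
  have hclV : IsClosedImmersion (i ∣_ V.1) := IsZariskiLocalAtTarget.restrict (P := @IsClosedImmersion) inferInstance V.1
  rw [Scheme.Hom.ker_apply] at hf
  refine ⟨V, hwV, hclV, List.ofFn f, List.length_ofFn, ⟨hreg, ?_⟩, by rw [hf, FlatMorKoszul.ofList_ofFn]⟩
  rw [smul_eq_mul, Ideal.mul_top, FlatMorKoszul.ofList_ofFn, ← hf]
  exact fun e => (V.2.primeIdealOf ⟨i w, hwV⟩).isPrime.ne_top
    (top_le_iff.1 (e.le.trans (RegCancelH2.ker_le_prime i w V.2 hwV)))

/-- The local input for Tor independence. -/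
theorem exists_local_seq
    (hCM : ∀ x : X, LocCoh.IsCohenMacaulayLocalRing (X.presheaf.stalk x))
    (hY : RegImm.IsRegularImmersionOfCodim RegImm.Kind.regular a iY)
    (hZ : RegImm.IsRegularImmersionOfCodim RegImm.Kind.regular b iZ)
    (hcodim : ∀ w : ↥(pullback iY iZ), ((a + b : ℕ) : WithBot ℕ∞) ≤
      ringKrullDim (X.presheaf.stalk ((pullback.fst iY iZ ≫ iY) w)))
    (U : X.affineOpens) {x : X} (hx : x ∈ U.1) :
    ∃ l : List (X.presheaf.stalk x),
      (RingHom.ker (iY.app U.1).hom).map (X.presheaf.germ U.1 x hx).hom = Ideal.ofList l ∧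
      RingTheory.Sequence.IsWeaklyRegular (X.presheaf.stalk x) l ∧
      RingTheory.Sequence.IsWeaklyRegular
        (X.presheaf.stalk x ⧸ (RingHom.ker (iZ.app U.1).hom).map (X.presheaf.germ U.1 x hx).hom) l := by
  have htop : ∀ {T : Scheme.{u}} (i : T ⟶ X) [IsClosedImmersion i], x ∉ Set.range i →
      (RingHom.ker (i.app U.1).hom).map (X.presheaf.germ U.1 x hx).hom = ⊤ := by
    intro T i _ hxi
    letI := X.presheaf.algebra_section_stalk ⟨x, hx⟩
    haveI := U.2.isLocalization_stalk ⟨x, hx⟩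
    by_contra hne
    have hd := (IsLocalization.map_algebraMap_ne_top_iff_disjoint (U.2.primeIdealOf ⟨x, hx⟩).asIdeal.primeCompl
      (X.presheaf.stalk x) (RingHom.ker (i.app U.1).hom)).1 hne
    refine hxi ?_
    have hsupp : x ∈ i.ker.support := by
      rw [Scheme.IdealSheafData.mem_support_iff_of_mem (U := U) hx, Scheme.Hom.ker_apply]
      refine (congrArg (fun t => t ∈ X.zeroLocus (U := U.1) (RingHom.ker (i.app U.1).hom : Set Γ(X, U.1)))
        (U.2.fromSpec_primeIdealOf ⟨x, hx⟩)).mp ?_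
      show U.2.primeIdealOf ⟨x, hx⟩ ∈ U.2.fromSpec ⁻¹' X.zeroLocus (U := U.1) (RingHom.ker (i.app U.1).hom : Set Γ(X, U.1))
      rw [U.2.fromSpec_preimage_zeroLocus, PrimeSpectrum.mem_zeroLocus]
      intro r hr
      by_contra hrp
      exact Set.disjoint_left.1 hd hrp hr
    have hsupp' : x ∈ (i.ker.support : Set X) := hsupp
    exact (i.isClosedEmbedding.isClosed_range.closure_eq).le ((congrArg (fun S => x ∈ S) (Scheme.Hom.support_ker i)).mp hsupp')
  have hone : ∀ (M : Type u) [AddCommGroup M] [Module (X.presheaf.stalk x) M],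
      RingTheory.Sequence.IsWeaklyRegular M [(1 : X.presheaf.stalk x)] := fun M _ _ =>
    (RingTheory.Sequence.isWeaklyRegular_singleton_iff M _).2 (IsSMulRegular.one M)
  by_cases hxY : x ∈ Set.range iY
  swap
  · exact ⟨[1], by rw [htop iY hxY, Ideal.ofList]; simp, hone _, hone _⟩
  obtain ⟨y, rfl⟩ := hxY
  haveI := hCM (iY y)
  obtain ⟨f, hf⟩ := exists_stalk_gens iY hY y
  have hfmap : (RingHom.ker (iY.app U.1).hom).map (X.presheaf.germ U.1 (iY y) hx).hom = Ideal.span (Set.range f) :=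
    (RegImmStalk.ker_stalkMap_eq iY y U.2 hx).symm.trans hf
  have hfm : ∀ p, f p ∈ IsLocalRing.maximalIdeal (X.presheaf.stalk (iY y)) := fun p =>
    IsLocalRing.le_maximalIdeal (RingHom.ker_ne_top (iY.stalkMap y).hom) (hf ▸ Ideal.subset_span ⟨p, rfl⟩)
  by_cases hxZ : iY y ∈ Set.range iZ
  swap
  · obtain ⟨rs, hrs, hker⟩ := RegImmStalk.exists_isRegular_ker_stalkMap iY
      ⟨inferInstance, fun z => by
        obtain ⟨V, h1, h2, rs, -, h3, h4⟩ := hY.2 z
        exact ⟨V, h1, h2, rs, h3, h4⟩⟩ y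
    refine ⟨rs, (RegImmStalk.ker_stalkMap_eq iY y U.2 hx).symm.trans hker, hrs.toIsWeaklyRegular, ?_⟩
    rw [htop iZ hxZ]
    haveI : Subsingleton (X.presheaf.stalk (iY y) ⧸ (⊤ : Ideal (X.presheaf.stalk (iY y)))) :=
      Ideal.Quotient.subsingleton_iff.2 rfl
    exact (RingTheory.Sequence.isWeaklyRegular_iff _ _).2 fun _ _ _ _ _ => Subsingleton.elim _ _
  refine ⟨List.ofFn f, by rw [hfmap, FlatMorKoszul.ofList_ofFn], ?_⟩
  obtain ⟨z, hz⟩ := hxZ
  obtain ⟨w, hw₁, hw₂⟩ := Scheme.Pullback.exists_preimage_pullback (f := iY) (g := iZ) y z hz.symm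
  subst hw₁
  have hwU : (pullback.fst iY iZ ≫ iY) w ∈ U.1 := hx
  have hxz : iZ (pullback.snd iY iZ w) = iY (pullback.fst iY iZ w) :=
    congr($(pullback.condition (f := iY) (g := iZ)) w).symm
  obtain ⟨g', hg'⟩ := exists_stalk_gens iZ hZ (pullback.snd iY iZ w)
  have hgen : ∀ {x' : X}, iZ (pullback.snd iY iZ w) = x' → ∀ hx' : x' ∈ U.1, ∃ g : Fin b → X.presheaf.stalk x',
      (RingHom.ker (iZ.app U.1).hom).map (X.presheaf.germ U.1 x' hx').hom = Ideal.span (Set.range g) ∧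
      ∀ p, g p ∈ IsLocalRing.maximalIdeal (X.presheaf.stalk x') := by
    rintro x' rfl hx'
    exact ⟨g', (RegImmStalk.ker_stalkMap_eq iZ _ U.2 hx').symm.trans hg', fun p =>
      IsLocalRing.le_maximalIdeal (RingHom.ker_ne_top (iZ.stalkMap _).hom) (hg' ▸ Ideal.subset_span ⟨p, rfl⟩)⟩
  obtain ⟨g, hg, hgm⟩ := hgen hxz hx
  have hh : ((a + b : ℕ) : ℕ∞) ≤ (Ideal.span (Set.range f) ⊔ Ideal.span (Set.range g)).height := by
    have h1 := le_height_ker (pullback.fst iY iZ ≫ iY) _ hcodim w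
    rw [RegImmStalk.ker_stalkMap_eq (pullback.fst iY iZ ≫ iY) w U.2 hwU,
      ← Scheme.Hom.ker_apply (pullback.fst iY iZ ≫ iY) U, ker_inter, Scheme.IdealSheafData.ideal_sup, Pi.sup_apply,
      Scheme.Hom.ker_apply, Scheme.Hom.ker_apply, Ideal.map_sup] at h1
    rw [← hfmap, ← hg]
    exact h1
  rw [hg]
  exact regular_of_height f g hfm hgm hh

/-- A surjective ring map as a linear equivalence from the quotient by its kernel. -/
theorem nonempty_quot_equiv {A B : Type u} [CommRing A] [CommRing B] (φ : A →+* B) (hφ : Function.Surjective φ) :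
    Nonempty (@LinearEquiv A A _ _ (RingHom.id A) (RingHom.id A) _ _ B (A ⧸ RingHom.ker φ) _ _ φ.toModule _) := by
  letI := φ.toModule
  exact ⟨(({ (RingHom.quotientKerEquivOfSurjective hφ).toAddEquiv with
    map_smul' := fun r x => by
      obtain ⟨x, rfl⟩ := Ideal.Quotient.mk_surjective x
      exact map_mul φ r x } : (A ⧸ RingHom.ker φ) ≃ₗ[A] B)).symm⟩

theorem subsingleton_tor_inter
    (hCM : ∀ x : X, LocCoh.IsCohenMacaulayLocalRing (X.presheaf.stalk x))
    (hY : RegImm.IsRegularImmersionOfCodim RegImm.Kind.regular a iY)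
    (hZ : RegImm.IsRegularImmersionOfCodim RegImm.Kind.regular b iZ)
    (hcodim : ∀ w : ↥(pullback iY iZ), ((a + b : ℕ) : WithBot ℕ∞) ≤
      ringKrullDim (X.presheaf.stalk ((pullback.fst iY iZ ≫ iY) w)))
    (U : X.affineOpens) (n : ℕ) (hn : 0 < n) :
    Subsingleton (@DRing.Tor Γ(X, U.1) _ n Γ(Y, iY ⁻¹ᵁ U.1) Γ(Z, iZ ⁻¹ᵁ U.1)
      _ (iY.app U.1).hom.toModule _ (iZ.app U.1).hom.toModule) := by
  letI := (iY.app U.1).hom.toModule
  letI := (iZ.app U.1).hom.toModule
  obtain ⟨eY⟩ := nonempty_quot_equiv (iY.app U.1).hom (iY.app_surjective U.1 U.2)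
  obtain ⟨eZ⟩ := nonempty_quot_equiv (iZ.app U.1).hom (iZ.app_surjective U.1 U.2)
  obtain ⟨f⟩ := nonempty_tor_congr eY eZ n
  refine @Equiv.subsingleton _ _ f.toEquiv ?_
  letI alg : ∀ (P : Ideal Γ(X, U.1)) [P.IsMaximal],
      Algebra Γ(X, U.1) (X.presheaf.stalk (U.2.fromSpec ⟨P, inferInstance⟩)) := fun P _ =>
    X.presheaf.algebra_section_stalk ⟨U.2.fromSpec ⟨P, inferInstance⟩, U.2.range_fromSpec.le ⟨_, rfl⟩⟩
  haveI loc : ∀ (P : Ideal Γ(X, U.1)) [P.IsMaximal],
      IsLocalization.AtPrime (X.presheaf.stalk (U.2.fromSpec ⟨P, inferInstance⟩)) P := fun P _ =>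
    U.2.isLocalization_stalk' ⟨P, inferInstance⟩ (U.2.range_fromSpec.le ⟨_, rfl⟩)
  refine @subsingleton_tor_of_local Γ(X, U.1) _ (fun P _ => X.presheaf.stalk (U.2.fromSpec ⟨P, inferInstance⟩))
    (fun P _ => inferInstance) alg loc _ _ n fun P hP => ?_
  have hxU : U.2.fromSpec ⟨P, inferInstance⟩ ∈ U.1 := U.2.range_fromSpec.le ⟨_, rfl⟩
  obtain ⟨l, hl, hreg, hregJ⟩ := exists_local_seq iY iZ hCM hY hZ hcodim U hxU
  let J := (RingHom.ker (iZ.app U.1).hom).map (algebraMap Γ(X, U.1) (X.presheaf.stalk (U.2.fromSpec ⟨P, inferInstance⟩)))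
  haveI := subsingleton_tor_of_regular l hreg (X.presheaf.stalk (U.2.fromSpec ⟨P, inferInstance⟩) ⧸ J) hregJ n hn
  obtain ⟨g⟩ := nonempty_tor_congr (Submodule.quotEquivOfEq _ _ hl) (LinearEquiv.refl _
    (X.presheaf.stalk (U.2.fromSpec ⟨P, inferInstance⟩) ⧸ J)) n
  exact g.toEquiv.subsingleton

end Groth.Agent.TorIndepH2
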