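import Groth.Agent.CycLib28.KoszulTor
import Groth.Agent.Misc15.KoszulElem
import Groth.Agent.InjMod14.Kosz.LciNear
import Groth.Agent.S2428

/-! Vanishing of Tor against the quotient by a regular sequence, and checking it locally. -/

set_option autoImplicit false
set_option backward.isDefEq.respectTransparency false

universe u

open CategoryTheory CategoryTheory.Limits
open scoped TensorProduct

namespace Groth.Agent.TorIndepH2

variable {A : Type u} [CommRing A]

/-- Tor is functorial in isomorphisms. -/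
theorem nonempty_tor_congr {M M' N N' : Type u} [AddCommGroup M] [Module A M] [AddCommGroup M'] [Module A M']
    [AddCommGroup N] [Module A N] [AddCommGroup N'] [Module A N'] (e : M ≃ₗ[A] M') (e' : N ≃ₗ[A] N') (n : ℕ) :
    Nonempty (DRing.Tor A n M N ≃ₗ[A] DRing.Tor A n M' N') :=
  ⟨((((CategoryTheory.Tor (ModuleCat.{u} A) n).mapIso e.toModuleIso).app (ModuleCat.of A N)) ≪≫
    ((CategoryTheory.Tor (ModuleCat.{u} A) n).obj (ModuleCat.of A M')).mapIso e'.toModuleIso).toLinearEquiv⟩

theorem subsingleton_tor_of_subsingleton_right (M N : Type u) [AddCommGroup M] [Module A M] [AddCommGroup N]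
    [Module A N] [Subsingleton N] (n : ℕ) (l : List A) (hl : RingTheory.Sequence.IsWeaklyRegular A l)
    (e : M ≃ₗ[A] A ⧸ Ideal.ofList l) : Subsingleton (DRing.Tor A n M N) := by
  haveI : Subsingleton (DRing.Tor A n (A ⧸ Ideal.ofList l) (ModuleCat.of A N)) := by
    refine (Module.length_eq_zero_iff (R := A)).1 ((CycLib28.length_tor l hl (ModuleCat.of A N) n).trans ?_)
    haveI := CAlgH.KoszulEuler.subsingleton_KH_of_subsingleton (ModuleCat.of A N) l (-(n : ℤ))
    exact Module.length_eq_zero
  obtain ⟨f⟩ := nonempty_tor_congr e (LinearEquiv.refl A N) n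
  exact f.toEquiv.subsingleton

/-- `Tor_i(A/(l), M) = 0` for `i > 0` when `l` is weakly regular on `A` and on `M`. -/
theorem subsingleton_tor_of_regular (l : List A) (hl : RingTheory.Sequence.IsWeaklyRegular A l)
    (M : Type u) [AddCommGroup M] [Module A M] (hM : RingTheory.Sequence.IsWeaklyRegular M l)
    (n : ℕ) (hn : 0 < n) : Subsingleton (DRing.Tor A n (A ⧸ Ideal.ofList l) M) := by
  refine (Module.length_eq_zero_iff (R := A)).1 ((CycLib28.length_tor l hl (ModuleCat.of A M) n).trans ?_)
  obtain ⟨e⟩ := CAlgH.KoszulEuler.nonempty_homology_equiv (CohIII.koszulCx (ModuleCat.of A M) l) (-(n : ℤ))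
  refine Eq.trans e.length_eq.symm ?_
  rw [Module.length_eq_zero_iff]
  refine ModuleCat.subsingleton_of_isZero (HomologicalComplex.ExactAt.isZero_homology ?_)
  rw [HomologicalComplex.exactAt_iff' _ (-(n : ℤ) - 1) _ (-(n : ℤ) + 1) (CochainComplex.prev _ _)
    (CochainComplex.next _ _), ShortComplex.moduleCat_exact_iff]
  intro z hz
  exact Misc15.Koszul.exact_of_regular l (ModuleCat.of A M) hM _ _ _ (by omega) rfl (by omega) z hz

/-- Sequences in a Cohen-Macaulay local ring cutting out the expected height are regular in either order. -/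
theorem regular_of_height {R : Type u} [CommRing R] [LocCoh.IsCohenMacaulayLocalRing R] {a b : ℕ}
    (f : Fin a → R) (g : Fin b → R) (hf : ∀ i, f i ∈ IsLocalRing.maximalIdeal R)
    (hg : ∀ i, g i ∈ IsLocalRing.maximalIdeal R)
    (hh : ((a + b : ℕ) : ℕ∞) ≤ (Ideal.span (Set.range f) ⊔ Ideal.span (Set.range g)).height) :
    RingTheory.Sequence.IsWeaklyRegular R (List.ofFn f) ∧
      RingTheory.Sequence.IsWeaklyRegular (R ⧸ Ideal.span (Set.range g)) (List.ofFn f) := by
  have key : ∀ {s t : ℕ} (u : Fin s → R) (v : Fin t → R), (∀ i, u i ∈ IsLocalRing.maximalIdeal R) →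
      (∀ i, v i ∈ IsLocalRing.maximalIdeal R) →
      ((s + t : ℕ) : ℕ∞) ≤ (Ideal.span (Set.range u) ⊔ Ideal.span (Set.range v)).height →
      RingTheory.Sequence.IsWeaklyRegular R (List.ofFn u) ∧
        RingTheory.Sequence.IsWeaklyRegular (R ⧸ Ideal.span (Set.range u)) (List.ofFn v) := by
    intro s t u v hu hv h
    have hs : Set.range (Fin.append u v) = Set.range u ∪ Set.range v := by
      ext x
      constructor
      · rintro ⟨i, rfl⟩
        induction i using Fin.addCases with
        | left i => exact Or.inl ⟨i, (Fin.append_left u v i).symm⟩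
        | right i => exact Or.inr ⟨i, (Fin.append_right u v i).symm⟩
      · rintro (⟨i, rfl⟩ | ⟨i, rfl⟩)
        · exact ⟨_, Fin.append_left u v i⟩
        · exact ⟨_, Fin.append_right u v i⟩
    have h1 := InjMod14.Kosz.isWeaklyRegular_of_le_height (Fin.append u v)
      (fun i => by induction i using Fin.addCases <;> simp [hu, hv])
      (by rwa [hs, Ideal.span_union])
    rw [List.ofFn_fin_append, RingTheory.Sequence.isWeaklyRegular_append_iff] at h1
    refine ⟨h1.1, (LinearEquiv.isWeaklyRegular_congr (Submodule.quotEquivOfEq _ _ ?_) _).1 h1.2⟩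
    rw [smul_eq_mul, Ideal.mul_top, Ideal.ofList]
    exact congrArg Ideal.span (Set.ext fun x => List.mem_ofFn)
  exact ⟨(key f g hf hg hh).1, (key g f hg hf (by rwa [add_comm, sup_comm])).2⟩

theorem nonempty_tensor_quotient (B : Type u) [CommRing B] [Algebra A B] (I : Ideal A) :
    Nonempty (B ⊗[A] (A ⧸ I) ≃ₗ[B] B ⧸ I.map (algebraMap A B)) :=
  ⟨(Algebra.TensorProduct.quotIdealMapEquivTensorQuot B I).symm.toLinearEquiv⟩

/-- Tor of two cyclic modules vanishes if it does so after localising at each maximal ideal. -/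
theorem subsingleton_tor_of_local (L : ∀ (P : Ideal A) [P.IsMaximal], Type u)
    [∀ (P : Ideal A) [P.IsMaximal], CommRing (L P)] [∀ (P : Ideal A) [P.IsMaximal], Algebra A (L P)]
    [∀ (P : Ideal A) [P.IsMaximal], IsLocalization.AtPrime (L P) P] (I J : Ideal A) (n : ℕ)
    (h : ∀ (P : Ideal A) [P.IsMaximal], Subsingleton (DRing.Tor (L P) n
      (L P ⧸ I.map (algebraMap A (L P))) (L P ⧸ J.map (algebraMap A (L P))))) :
    Subsingleton (DRing.Tor A n (A ⧸ I) (A ⧸ J)) := by
  refine Module.subsingleton_of_localization_maximal (R := A)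
    (fun P _ => L P ⊗[A] (DRing.Tor A n (A ⧸ I) (A ⧸ J)))
    (fun P _ => TensorProduct.mk A (L P) (DRing.Tor A n (A ⧸ I) (A ⧸ J)) 1) fun P _ => ?_
  haveI := h P
  haveI : Module.Flat A (L P) := IsLocalization.flat _ P.primeCompl
  obtain ⟨e⟩ := S2428.result A (L P) (A ⧸ I) (A ⧸ J) n
  obtain ⟨e₁⟩ := nonempty_tensor_quotient (L P) I
  obtain ⟨e₂⟩ := nonempty_tensor_quotient (L P) J
  obtain ⟨f⟩ := nonempty_tor_congr e₁ e₂ n
  exact (e.trans f).toEquiv.subsingleton

end Groth.Agent.TorIndepH2
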